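import Cfsg.Agent.Lib.Helper9.AschU.Defs
import Cfsg.Agent.Lib.Helper12.Asch.K2b

set_option autoImplicit false

/-! # Piece UK2f of the unitary Aschbacher campaign: the tensor frame of a family of commuting
subgroups, with the enveloping algebras identified -/

namespace Cfsg.Agent.Lib.Helper60.AschU

open Cfsg Cfsg.Geo Matrix Cfsg.Agent.Lib.Helper13 Cfsg.Agent.Lib.Helper13.Asch
  Cfsg.Agent.Lib.Helper5.SUAsch Cfsg.Agent.Lib.Helper9.AschU Cfsg.Agent.Lib.Helper12.Asch
open scoped Kronecker MatrixGroups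

variable {F : Type*} [Field F] [Fintype F] {n q : ℕ}

/-- the tensor decomposition attached to the family -/
theorem tensor_frame' {ι : Type} [Fintype ι] [DecidableEq ι] [Nonempty ι]
    {H : Subgroup (GL ι F)} (hQP : QP H)
    {t : ℕ} (ht : 2 ≤ t) (P : Fin t → Subgroup (GL ι F)) (hPH : ∀ i, P i ≤ H)
    (hcomm : ∀ i j, i ≠ j → ∀ x ∈ P i, ∀ y ∈ P j, x * y = y * x)
    (hperm : ∀ h ∈ H, ∃ σ : Equiv.Perm (Fin t), ∀ i,
      (P i).map (MulAut.conj h).toMonoidHom = P (σ i))
    (htrans : ∀ i j, ∃ h ∈ H, (P i).map (MulAut.conj h).toMonoidHom = P j)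
    (hns : ∀ i, ¬ P i ≤ scalars ι F) :
    Nrm H (⨆ i, P i) ∧ env (⨆ i, P i) = ⊤ ∧
    ∃ (m : ℕ) (e : ι ≃ (Fin t → Fin m)) (Pm : GL ι F),
      H ≤ tensorWreathSubgroup m t e Pm ∧
      ∀ i, ∀ x : Matrix ι ι F, x ∈ env (P i) ↔ ∃ X : Matrix (Fin m) (Fin m) F, x = embT e Pm i X := by
  classical
  set P0 : Subgroup (GL ι F) := ⨆ i, P i with hP0
  have i0 : Fin t := ⟨0, by omega⟩
  have hPP0 : ∀ i, P i ≤ P0 := fun i => le_iSup P i
  have hP0H : P0 ≤ H := iSup_le hPH
  have hnrm : Nrm H P0 := by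
    intro h hh x hx
    obtain ⟨σ, hσ⟩ := hperm h hh
    induction hx using Subgroup.iSup_induction' with
    | hp i x hx =>
      apply hPP0 (σ i)
      rw [← hσ i]
      exact ⟨x, hx, rfl⟩
    | h1 => simp
    | hmul x y _ _ hx hy =>
      have e : h * (x * y) * h⁻¹ = (h * x * h⁻¹) * (h * y * h⁻¹) := by group
      rw [e]
      exact P0.mul_mem hx hy
  have henv : env P0 = ⊤ :=
    (hQP P0 hP0H hnrm).resolve_left (fun h => hns i0 ((hPP0 i0).trans h))
  refine ⟨hnrm, henv, ?_⟩
  have hnrmi : ∀ i, Nrm P0 (P i) := by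
    intro i x hx
    induction hx using Subgroup.iSup_induction' with
    | hp j x hx =>
      intro y hy
      by_cases hij : j = i
      · subst hij
        exact (P j).mul_mem ((P j).mul_mem hx hy) ((P j).inv_mem hx)
      · rw [hcomm j i hij x hx y hy, mul_inv_cancel_right]
        exact hy
    | h1 => intro y hy; simpa using hy
    | hmul x y _ _ hx hy =>
      intro z hz
      have e : x * y * z * (x * y)⁻¹ = x * (y * z * y⁻¹) * x⁻¹ := by group
      rw [e]
      exact hx _ (hy z hz)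
  have hAcomm : ∀ i j, i ≠ j → ∀ a ∈ env (P i), ∀ b ∈ env (P j), a * b = b * a :=
    fun i j hij => env_commute (hcomm i j hij)
  have hcenter : ∀ i, ∀ z ∈ env (P i), (∀ a ∈ env (P i), z * a = a * z) →
      ∃ c : F, z = c • (1 : Matrix ι ι F) := by
    intro i z hz hza
    apply Cfsg.Agent.Lib.Helper96.Asch.scalar_of_commute henv
    intro x hx
    induction hx using Subgroup.iSup_induction' with
    | hp j x hx =>
      by_cases hij : i = j
      · subst hij
        exact hza _ (mem_env hx)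
      · exact hAcomm i j hij z hz _ (mem_env hx)
    | h1 => simp
    | hmul x y _ _ hx hy =>
      rw [Units.val_mul, ← mul_assoc, hx, mul_assoc, hy, mul_assoc]
  have hSS : ∀ i, SS (env (P i)) := fun i =>
    Cfsg.Agent.Lib.Helper73.Asch.ss_of_irr P0
      (Cfsg.Agent.Lib.Helper96.Asch.absIrr_of_env_top henv).1 _
      (Cfsg.Agent.Lib.Helper58.Asch.nrm_env (hnrmi i))
  obtain ⟨m, ⟨ψ⟩⟩ := Cfsg.Agent.Lib.Helper79.Asch.exists_algEquiv_matrix (env (P i0)) (hSS i0)
    (hcenter i0)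
  choose g hgH hg using htrans i0
  let φ : Fin t → (Matrix (Fin m) (Fin m) F →ₐ[F] Matrix ι ι F) := fun i =>
    (cjA (g i)).comp ((env (P i0)).val.comp ψ.toAlgHom)
  have hrange : ∀ i, (φ i).range = env (P i) := by
    intro i
    show ((cjA (g i)).comp ((env (P i0)).val.comp ψ.toAlgHom)).range = _
    rw [AlgHom.range_comp, AlgHom.range_comp, ← hg i, env_conj]
    congr 1
    have : (ψ.toAlgHom).range = ⊤ := by
      rw [AlgHom.range_eq_top]
      exact ψ.surjective
    rw [this, Algebra.map_top, Subalgebra.range_val]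
  have hφmem : ∀ i X, φ i X ∈ env (P i) := fun i X => by
    rw [← hrange i]; exact ⟨X, rfl⟩
  have hgen : (⨆ i, (φ i).range) = ⊤ := by
    rw [eq_top_iff, ← henv]
    apply Algebra.adjoin_le
    rintro _ ⟨x, hx, rfl⟩
    show (x : Matrix ι ι F) ∈ (⨆ i, (φ i).range)
    induction hx using Subgroup.iSup_induction' with
    | hp j x hx =>
      have h1 : (φ j).range ≤ ⨆ i, (φ i).range := le_iSup (fun i => (φ i).range) j
      apply h1
      rw [hrange j]
      exact mem_env hx
    | h1 => exact Subalgebra.one_mem _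
    | hmul x y _ _ hx hy =>
      rw [Units.val_mul]
      exact Subalgebra.mul_mem _ hx hy
  obtain ⟨e, Pm, hstd⟩ := Cfsg.Agent.Lib.Helper21.Asch.tensor_std φ
    (fun i j hij X Y => hAcomm i j hij _ (hφmem i X) _ (hφmem j Y)) hgen
  refine ⟨m, e, Pm, ?_, ?_⟩
  · intro h hh
    obtain ⟨σ, hσ⟩ := hperm h hh
    apply Cfsg.Agent.Lib.Helper21.Asch.mem_tensorWreath (by omega) e Pm h σ
    intro i X
    have h1 : cjA h (φ i X) ∈ env (P (σ i)) := by
      rw [← hσ i, env_conj]
      exact ⟨_, hφmem i X, rfl⟩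
    rw [← hrange (σ i)] at h1
    obtain ⟨Y, hY⟩ := h1
    refine ⟨Y, ?_⟩
    rw [← hstd, ← hstd]
    exact hY.symm
  · intro i x
    constructor
    · intro h1
      rw [← hrange i] at h1
      obtain ⟨X, hX⟩ := h1
      exact ⟨X, by rw [← hstd]; exact hX.symm⟩
    · rintro ⟨X, rfl⟩
      rw [← hstd]
      exact hφmem i X


end Cfsg.Agent.Lib.Helper60.AschU
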